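import Mathlib.GroupTheory.Index
import Mathlib.Data.ZMod.QuotientGroup
import Mathlib.LinearAlgebra.FreeModule.Finite.CardQuotient
import Mathlib.LinearAlgebra.Matrix.Rank
import Mathlib.Tactic

set_option autoImplicit false

namespace K836.Lattice

open Finset

/-- the cardinality of a subquotient as a relative index -/
lemma card_eq_relIndex {M : Type*} [AddCommGroup M] (K N : Submodule ℤ M) :
    Nat.card (K ⧸ N.comap K.subtype) = N.toAddSubgroup.relIndex K.toAddSubgroup := rfl

variable (n : ℕ)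

/-- sum of coordinates -/
abbrev S : (Fin n → ℤ) →ₗ[ℤ] ℤ := ∑ i : Fin n, (LinearMap.proj i : (Fin n → ℤ) →ₗ[ℤ] ℤ)

/-- the diagonal map -/
abbrev Dg (δ : Fin n → ℤ) : (Fin n → ℤ) →ₗ[ℤ] (Fin n → ℤ) := Matrix.mulVecLin (Matrix.diagonal δ)

variable {n}

lemma Dg_apply (δ : Fin n → ℤ) (v : Fin n → ℤ) (i : Fin n) : Dg n δ v i = δ i * v i := by
  simp [Dg, Matrix.mulVec_diagonal]

lemma S_apply (v : Fin n → ℤ) : S n v = ∑ i, v i := by
  simp [S, LinearMap.sum_apply]

lemma Dg_injective (δ : Fin n → ℤ) (hδ : ∀ i, δ i ≠ 0) : Function.Injective (Dg n δ) := by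
  intro v w h
  funext i
  have := congrFun h i
  rw [Dg_apply, Dg_apply] at this
  exact mul_left_cancel₀ (hδ i) this

lemma index_range_Dg (δ : Fin n → ℤ) (hδ : ∀ i, δ i ≠ 0) :
    (((LinearMap.range (Dg n δ)).toAddSubgroup.index : ℕ) : ℤ) = |∏ i, δ i| := by
  have h := Submodule.natAbs_det_equiv (LinearMap.range (Dg n δ))
    (LinearEquiv.ofInjective (Dg n δ) (Dg_injective δ hδ))
  have e : ((LinearMap.range (Dg n δ)).subtype ∘ₗ
      AddMonoidHom.toIntLinearMap ((LinearEquiv.ofInjective (Dg n δ) (Dg_injective δ hδ) :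
        (Fin n → ℤ) ≃ₗ[ℤ] _) : (Fin n → ℤ) →+ LinearMap.range (Dg n δ))) = Dg n δ := by
    ext v
    rfl
  rw [e] at h
  have e2 : (LinearMap.range (Dg n δ)).toAddSubgroup.index =
    Nat.card ((Fin n → ℤ) ⧸ (LinearMap.range (Dg n δ))) := rfl
  rw [e2, ← h, Int.natCast_natAbs]
  congr 1
  rw [Dg, ← Matrix.toLin'_apply', LinearMap.det_toLin', Matrix.det_diagonal]

lemma index_map_S (hn : 0 < n) (δ : Fin n → ℤ) (hδ : ∀ i, δ i ≠ 0) :
    (((LinearMap.ker (S n)).toAddSubgroup ⊔ (LinearMap.range (Dg n δ)).toAddSubgroup).index : ℤ) =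
      univ.gcd δ := by
  have hsurj : Function.Surjective (S n).toAddMonoidHom := by
    intro a
    refine ⟨Pi.single ⟨0, hn⟩ a, ?_⟩
    show S n _ = a
    rw [S_apply]
    simp
  have h1 : (LinearMap.ker (S n)).toAddSubgroup ⊔ (LinearMap.range (Dg n δ)).toAddSubgroup =
      (AddSubgroup.zmultiples (univ.gcd δ)).comap (S n).toAddMonoidHom := by
    have h2 : AddSubgroup.zmultiples (univ.gcd δ) =
        ((LinearMap.range (Dg n δ)).toAddSubgroup).map (S n).toAddMonoidHom := by
      apply le_antisymm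
      · rw [AddSubgroup.zmultiples_le]
        obtain ⟨c, hc⟩ := Finset.gcd_eq_sum_mul (s := (univ : Finset (Fin n))) (f := δ)
        refine ⟨Dg n δ c, ⟨c, rfl⟩, ?_⟩
        show S n _ = _
        rw [S_apply]
        simp only [Dg_apply]
        exact hc.symm
      · rintro _ ⟨_, ⟨v, rfl⟩, rfl⟩
        show S n (Dg n δ v) ∈ _
        rw [S_apply, Int.mem_zmultiples_iff]
        refine Finset.dvd_sum fun i _ => ?_
        rw [Dg_apply]
        exact Dvd.dvd.mul_right (Finset.gcd_dvd (mem_univ i)) _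
    rw [h2, AddSubgroup.comap_map_eq, sup_comm]
    rfl
  rw [h1, AddSubgroup.index_comap_of_surjective _ hsurj, Int.index_zmultiples, Int.natCast_natAbs,
    abs_of_nonneg]
  have := Finset.normalize_gcd (s := (univ : Finset (Fin n))) (f := δ)
  rw [← this]
  exact Int.nonneg_of_normalize_eq_self (normalize_idem _)

/-- `#(ker S / (ker S ∩ im D)) · gcd = |det D|` -/
lemma relIndex_kerS (hn : 0 < n) (δ : Fin n → ℤ) (hδ : ∀ i, δ i ≠ 0) :
    (univ.gcd δ : ℤ) * ((LinearMap.range (Dg n δ)).toAddSubgroup.relIndex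
      (LinearMap.ker (S n)).toAddSubgroup : ℤ) = |∏ i, δ i| := by
  rw [← index_range_Dg δ hδ, ← index_map_S hn δ hδ]
  rw [← AddSubgroup.relIndex_mul_index (H := (LinearMap.range (Dg n δ)).toAddSubgroup)
    (K := (LinearMap.ker (S n)).toAddSubgroup ⊔ (LinearMap.range (Dg n δ)).toAddSubgroup) le_sup_right,
    AddSubgroup.relIndex_sup_right]
  push_cast
  ring

lemma part1 (hn : 0 < n) (δ : Fin n → ℤ) (hδ : ∀ i, δ i ≠ 0)
    (A : (Fin n → ℤ) →ₗ[ℤ] (Fin n → ℤ)) (hSDA : S n ∘ₗ Dg n δ ∘ₗ A = 0) :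
    ((LinearMap.range A).toAddSubgroup.relIndex (LinearMap.ker (S n ∘ₗ Dg n δ)).toAddSubgroup : ℤ) *
      |∏ i, δ i| =
    (univ.gcd δ) * ((LinearMap.range (Dg n δ ∘ₗ A)).toAddSubgroup.relIndex
      (LinearMap.ker (S n)).toAddSubgroup : ℤ) := by
  have e1 : (LinearMap.range A).toAddSubgroup.relIndex (LinearMap.ker (S n ∘ₗ Dg n δ)).toAddSubgroup =
      (LinearMap.range (Dg n δ ∘ₗ A)).toAddSubgroup.relIndex
        ((LinearMap.range (Dg n δ)).toAddSubgroup ⊓ (LinearMap.ker (S n)).toAddSubgroup) := by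
    rw [← AddSubgroup.relIndex_map_map_of_injective (f := (Dg n δ).toAddMonoidHom) _ _
      (Dg_injective δ hδ)]
    congr 1
    · ext v
      constructor
      · rintro ⟨_, ⟨w, rfl⟩, rfl⟩
        exact ⟨w, rfl⟩
      · rintro ⟨w, rfl⟩
        exact ⟨_, ⟨w, rfl⟩, rfl⟩
    · ext v
      constructor
      · rintro ⟨w, hw, rfl⟩
        exact ⟨⟨w, rfl⟩, hw⟩
      · rintro ⟨⟨w, rfl⟩, hw⟩
        exact ⟨w, hw, rfl⟩
  have hle : (LinearMap.range (Dg n δ ∘ₗ A)).toAddSubgroup ≤
      ((LinearMap.range (Dg n δ)).toAddSubgroup ⊓ (LinearMap.ker (S n)).toAddSubgroup) := by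
    rintro _ ⟨w, rfl⟩
    exact ⟨⟨A w, rfl⟩, LinearMap.congr_fun hSDA w⟩
  rw [← AddSubgroup.relIndex_mul_relIndex _ _ _ hle inf_le_right, AddSubgroup.inf_relIndex_right,
    ← relIndex_kerS hn δ hδ, e1]
  push_cast
  ring

/-- the primitive vector of the diagonal -/
lemma exists_primitive (hn : 0 < n) (δ : Fin n → ℤ) (hδ : ∀ i, δ i ≠ 0) :
    ∃ w : Fin n → ℤ, (∀ i, δ i = univ.gcd δ * w i) ∧ univ.gcd w = 1 := by
  obtain ⟨w, hw, hg⟩ := Finset.extract_gcd δ (s := (univ : Finset (Fin n))) ⟨⟨0, hn⟩, mem_univ _⟩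
  exact ⟨w, fun i => hw i (mem_univ i), hg⟩

lemma part2 (hn : 0 < n) (δ' : Fin n → ℤ) (hδ' : ∀ i, δ' i ≠ 0)
    (A : Matrix (Fin n) (Fin n) ℤ) (hA : A.rank = n - 1)
    (hADΔ : (Matrix.mulVecLin A) ∘ₗ (Dg n δ') ∘ₗ
        (LinearMap.pi fun _ : Fin n => (LinearMap.id : ℤ →ₗ[ℤ] ℤ)) = 0) :
    (univ.gcd δ' : ℤ) * ((LinearMap.range (A.mulVecLin ∘ₗ Dg n δ')).toAddSubgroup.relIndex
      (LinearMap.range A.mulVecLin).toAddSubgroup : ℤ) = |∏ i, δ' i| := by
  obtain ⟨w, hw, hwg⟩ := exists_primitive hn δ' hδ'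
  set d := univ.gcd δ' with hd
  have hd0 : d ≠ 0 := by
    intro h0
    exact hδ' ⟨0, hn⟩ (by rw [hw ⟨0, hn⟩, h0, zero_mul])
  have hdpos : 0 ≤ d := by
    have := Finset.normalize_gcd (s := (univ : Finset (Fin n))) (f := δ')
    rw [hd, ← this]
    exact Int.nonneg_of_normalize_eq_self (normalize_idem _)
  have hw0 : ∀ i, w i ≠ 0 := by
    intro i hi
    exact hδ' i (by rw [hw i, hi, mul_zero])
  have hδker : A.mulVecLin δ' = 0 := by
    have := LinearMap.congr_fun hADΔ 1
    have e : (Dg n δ') ((LinearMap.pi fun _ : Fin n => (LinearMap.id : ℤ →ₗ[ℤ] ℤ)) 1) = δ' := by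
      funext i
      rw [Dg_apply]
      simp
    rw [LinearMap.comp_apply, LinearMap.comp_apply, e] at this
    exact this
  have hδw : δ' = d • w := by
    funext i; rw [Pi.smul_apply, smul_eq_mul]; exact hw i
  have hwker : A.mulVecLin w = 0 := by
    rw [hδw, map_smul] at hδker
    exact (smul_eq_zero.mp hδker).resolve_left hd0
  -- the kernel is generated by `w`
  have hfr : Module.finrank ℤ (LinearMap.ker A.mulVecLin) = 1 := by
    have h1 := Submodule.finrank_quotient_add_finrank (LinearMap.ker A.mulVecLin)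
    rw [(A.mulVecLin.quotKerEquivRange).finrank_eq] at h1
    have h2 : Module.finrank ℤ (LinearMap.range A.mulVecLin) = n - 1 := hA
    rw [h2, Module.finrank_fintype_fun_eq_card, Fintype.card_fin] at h1
    omega
  have hker : (LinearMap.ker A.mulVecLin).toAddSubgroup =
      (zmultiplesHom (Fin n → ℤ) w).range := by
    apply le_antisymm
    · intro v hv
      by_cases hv0 : v = 0
      · rw [hv0]; exact zero_mem _
      -- dependence of v and w
      have hdep : ∃ a b : ℤ, (a ≠ 0 ∨ b ≠ 0) ∧ a • v = b • w := by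
        by_contra hcon
        push Not at hcon
        have hli : LinearIndependent ℤ ![(⟨v, hv⟩ : LinearMap.ker A.mulVecLin), ⟨w, hwker⟩] := by
          rw [LinearIndependent.pair_iff]
          intro s t hst
          by_contra hne
          have h1 : s • v = (-t) • w := by
            have := congrArg Subtype.val hst
            simp only [Submodule.coe_add, Submodule.coe_smul, Submodule.coe_zero] at this
            rw [neg_smul]
            exact eq_neg_of_add_eq_zero_left this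
          refine hcon s (-t) ?_ h1
          by_contra h2
          push Not at h2
          exact hne ⟨h2.1, by simpa using h2.2⟩
        have := hli.fintype_card_le_finrank
        rw [hfr] at this
        simp at this
      obtain ⟨a, b, hab, h⟩ := hdep
      have ha : a ≠ 0 := by
        rintro rfl
        rw [zero_smul] at h
        rcases hab with h' | h'
        · exact h' rfl
        · have := congrFun h ⟨0, hn⟩
          simp only [Pi.zero_apply, Pi.smul_apply, smul_eq_mul] at this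
          exact (mul_ne_zero h' (hw0 _)) this.symm
      have hdvd : a ∣ b := by
        have h1 : ∀ i ∈ (univ : Finset (Fin n)), a ∣ b * w i := by
          intro i _
          have := congrFun h i
          simp only [Pi.smul_apply, smul_eq_mul] at this
          exact ⟨v i, this.symm⟩
        have h2 := Finset.dvd_gcd h1
        rw [Finset.gcd_mul_left, hwg, mul_one] at h2
        exact dvd_normalize_iff.mp h2
      obtain ⟨c, rfl⟩ := hdvd
      refine ⟨c, ?_⟩
      rw [zmultiplesHom_apply]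
      rw [mul_smul] at h
      exact (smul_right_injective _ ha h).symm
    · rintro _ ⟨k, rfl⟩
      rw [zmultiplesHom_apply]
      exact (LinearMap.ker A.mulVecLin).smul_mem k hwker
  -- the relative index
  have hrel : (LinearMap.range (Dg n δ')).toAddSubgroup.relIndex
      (LinearMap.ker A.mulVecLin).toAddSubgroup = d.natAbs := by
    rw [hker, ← AddSubgroup.index_comap, ← Int.index_zmultiples]
    congr 1
    ext k
    rw [AddSubgroup.mem_comap, zmultiplesHom_apply, Int.mem_zmultiples_iff]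
    constructor
    · rintro ⟨v, hv⟩
      have := congrFun hv ⟨0, hn⟩
      rw [Dg_apply, Pi.smul_apply, smul_eq_mul, hw] at this
      refine ⟨v ⟨0, hn⟩, ?_⟩
      apply mul_right_cancel₀ (hw0 ⟨0, hn⟩)
      rw [← this]; ring
    · rintro ⟨c, rfl⟩
      refine ⟨fun _ => c, ?_⟩
      funext i
      rw [Dg_apply, Pi.smul_apply, smul_eq_mul, hw]
      ring
  have hmain : (LinearMap.range (A.mulVecLin ∘ₗ Dg n δ')).toAddSubgroup.relIndex
      (LinearMap.range A.mulVecLin).toAddSubgroup =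
      ((LinearMap.range (Dg n δ')).toAddSubgroup ⊔ (LinearMap.ker A.mulVecLin).toAddSubgroup).index := by
    have h1 : (LinearMap.range (A.mulVecLin ∘ₗ Dg n δ')).toAddSubgroup =
        (LinearMap.range (Dg n δ')).toAddSubgroup.map A.mulVecLin.toAddMonoidHom := by
      ext v
      constructor
      · rintro ⟨w, rfl⟩
        exact ⟨_, ⟨w, rfl⟩, rfl⟩
      · rintro ⟨_, ⟨w, rfl⟩, rfl⟩
        exact ⟨w, rfl⟩
    have h2 : (LinearMap.range A.mulVecLin).toAddSubgroup =
        (⊤ : AddSubgroup (Fin n → ℤ)).map A.mulVecLin.toAddMonoidHom := by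
      ext v
      constructor
      · rintro ⟨w, rfl⟩
        exact ⟨w, trivial, rfl⟩
      · rintro ⟨w, _, rfl⟩
        exact ⟨w, rfl⟩
    rw [h1, h2, AddSubgroup.relIndex_map_map, top_sup_eq, AddSubgroup.relIndex_top_right]
    rfl
  rw [hmain, ← index_range_Dg δ' hδ']
  rw [← AddSubgroup.relIndex_mul_index (H := (LinearMap.range (Dg n δ')).toAddSubgroup)
    (K := (LinearMap.range (Dg n δ')).toAddSubgroup ⊔ (LinearMap.ker A.mulVecLin).toAddSubgroup)
    le_sup_left, AddSubgroup.relIndex_sup_left, hrel]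
  push_cast
  rw [abs_of_nonneg hdpos]

end K836.Lattice
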